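import Mathlib

/-!
# A natural transformation between left adjoints which is invertible on a detecting family
is invertible
-/

set_option autoImplicit false
open CategoryTheory

namespace Groth.Agent.Lib.Helper74.ModPull

universe v₁ v₂ u₁ u₂

variable {A : Type u₁} [Category.{v₁} A] {B : Type u₂} [Category.{v₂} B]
  {F G : A ⥤ B} {F' G' : B ⥤ A}

lemma homEquiv_symm_comp_conjugate (adjF : F ⊣ F') (adjG : G ⊣ G') (θ : F ⟶ G) {X : A} {M : B}
    (h' : X ⟶ G'.obj M) :
    (adjF.homEquiv X M).symm (h' ≫ (conjugateEquiv adjG adjF θ).app M) =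
      θ.app X ≫ (adjG.homEquiv X M).symm h' := by
  rw [Adjunction.homEquiv_counit, Adjunction.homEquiv_counit, F.map_comp, Category.assoc,
    conjugateEquiv_counit, ← Category.assoc, ← Category.assoc, θ.naturality]

theorem isIso_of_isIso_app_of_isDetecting (adjF : F ⊣ F') (adjG : G ⊣ G') (θ : F ⟶ G)
    (𝒢 : ObjectProperty A) (h𝒢 : 𝒢.IsDetecting) (hθ : ∀ X, 𝒢 X → IsIso (θ.app X)) : IsIso θ := by
  have h1 : ∀ M, IsIso ((conjugateEquiv adjG adjF θ).app M) := by
    intro M
    apply h𝒢
    intro X hX h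
    have := hθ X hX
    refine ⟨adjG.homEquiv X M (inv (θ.app X) ≫ (adjF.homEquiv X M).symm h), ?_, ?_⟩
    · apply (adjF.homEquiv X M).symm.injective
      rw [homEquiv_symm_comp_conjugate, Equiv.symm_apply_apply, IsIso.hom_inv_id_assoc]
    · intro h' hh'
      have h2 := congrArg (adjF.homEquiv X M).symm hh'
      rw [homEquiv_symm_comp_conjugate] at h2
      rw [← h2, IsIso.inv_hom_id_assoc, Equiv.apply_symm_apply]
  have h2 : IsIso (conjugateEquiv adjG adjF θ) := NatIso.isIso_of_isIso_app _
  exact conjugateEquiv_of_iso adjG adjF θ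

end Groth.Agent.Lib.Helper74.ModPull
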