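import Mathlib

/-!
# Covering-flatness of a continuous functor whose sheaf pullback is exact

`fn : D ⥤ C` continuous between small sites, such that `fn.sheafPullback (Type u) K J` preserves finite
limits.  We show that `fn` is "covering-flat": every cone over `F ⋙ fn` (for a finite diagram `F` in `D`)
locally factors through the image of a cone over `F`.
-/

set_option autoImplicit false
universe u
open CategoryTheory Limits Opposite

namespace Groth.Agent.Lib.Helper74.ModPull

variable {C D : Type u} [SmallCategory C] [SmallCategory D]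
  (J : GrothendieckTopology C) (K : GrothendieckTopology D) (fn : D ⥤ C)

/-- left Kan extension followed by sheafification -/
noncomputable abbrev LanSh : (Dᵒᵖ ⥤ Type u) ⥤ Sheaf J (Type u) :=
  fn.op.lan ⋙ presheafToSheaf J (Type u)

/-- restriction along `fn` of the underlying presheaf -/
abbrev ResPre : Sheaf J (Type u) ⥤ (Dᵒᵖ ⥤ Type u) :=
  sheafToPresheaf J (Type u) ⋙ (Functor.whiskeringLeft _ _ _).obj fn.op

noncomputable def adjL : LanSh J fn ⊣ ResPre J fn :=
  (fn.op.lanAdjunction (Type u)).comp (sheafificationAdjunction J (Type u))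

section Exact

variable [fn.IsContinuous K J]

noncomputable def lanShIso :
    LanSh J fn ≅ presheafToSheaf K (Type u) ⋙ fn.sheafPullback (Type u) K J :=
  (adjL J fn).leftAdjointUniq
    (((sheafificationAdjunction K (Type u)).comp
      (fn.sheafAdjunctionContinuous (Type u) K J)).ofNatIsoRight
        (NatIso.ofComponents (fun G => Iso.refl _)))

lemma preservesFiniteLimits_lanSh [PreservesFiniteLimits (fn.sheafPullback (Type u) K J)] :
    PreservesFiniteLimits (LanSh J fn) := by
  have : PreservesFiniteLimits (presheafToSheaf K (Type u) ⋙ fn.sheafPullback (Type u) K J) :=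
    comp_preservesFiniteLimits _ _
  exact preservesFiniteLimits_of_natIso (lanShIso J K fn).symm

end Exact

section LocalLift

variable {fn}
variable {P : Dᵒᵖ ⥤ Type u} {G : Cᵒᵖ ⥤ Type u} (ψ : P ⟶ fn.op ⋙ G)

/-- the transpose of `ψ` under `LanSh ⊣ ResPre` -/
noncomputable def transp : (LanSh J fn).obj P ⟶ (presheafToSheaf J (Type u)).obj G :=
  ((adjL J fn).homEquiv P _).symm (ψ ≫ Functor.whiskerLeft fn.op (toSheafify J G))

/-- the sections of `G` which factor through `ψ` -/
def factorSub : Subfunctor G where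
  obj T := {g | ∃ (X : D) (c : T.unop ⟶ fn.obj X) (x : P.obj (op X)),
    G.map c.op (ψ.app (op X) x) = g}
  map := by
    rintro U V i g ⟨X, c, x, rfl⟩
    refine ⟨X, i.unop ≫ c, x, ?_⟩
    simp

/-- `ψ` factors through `factorSub` -/
def toFactorSub : P ⟶ fn.op ⋙ (factorSub ψ).toFunctor where
  app X := TypeCat.ofHom (fun x => ⟨ψ.app X x, ⟨X.unop, 𝟙 _, x, by simp⟩⟩)
  naturality X Y f := by
    ext x
    apply Subtype.ext
    exact NatTrans.naturality_apply ψ f x

lemma toFactorSub_ι : toFactorSub ψ ≫ Functor.whiskerLeft fn.op (factorSub ψ).ι = ψ := by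
  ext X x
  rfl

lemma transp_fac :
    transp J ψ = transp J (toFactorSub ψ) ≫ (presheafToSheaf J (Type u)).map (factorSub ψ).ι := by
  unfold transp
  rw [← Adjunction.homEquiv_naturality_right_symm]
  congr 1
  conv_lhs => rw [← toFactorSub_ι ψ]
  rw [Category.assoc, Category.assoc]
  congr 1
  have : (ResPre J fn).map ((presheafToSheaf J (Type u)).map (factorSub ψ).ι) =
      Functor.whiskerLeft fn.op (sheafifyMap J (factorSub ψ).ι) := rfl
  rw [this, ← Functor.whiskerLeft_comp, ← Functor.whiskerLeft_comp, toSheafify_naturality]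

/-- **Local lifting**: if the transpose of `ψ` is an epimorphism of sheaves, every section of `G`
locally factors through `ψ`. -/
theorem local_lift (h : Epi (transp J ψ)) {T : C} (g : G.obj (op T)) :
    ∃ S ∈ J T, ∀ ⦃T' : C⦄ (t : T' ⟶ T), S t →
      ∃ (X : D) (c : T' ⟶ fn.obj X) (x : P.obj (op X)),
        G.map c.op (ψ.app (op X) x) = G.map t.op g := by
  have h1 : Epi ((presheafToSheaf J (Type u)).map (factorSub ψ).ι) := by
    rw [transp_fac] at h
    exact epi_of_epi (transp J (toFactorSub ψ)) _
  have h2 : Sheaf.IsLocallySurjective ((presheafToSheaf J (Type u)).map (factorSub ψ).ι) :=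
    (Sheaf.isLocallySurjective_iff_epi _).mpr h1
  have h3 : Presheaf.IsLocallySurjective J (factorSub ψ).ι :=
    (Presheaf.isLocallySurjective_presheafToSheaf_map_iff J _).mp h2
  refine ⟨Presheaf.imageSieve (factorSub ψ).ι g,
    Presheaf.imageSieve_mem J (factorSub ψ).ι (U := op T) g, ?_⟩
  rintro T' t ⟨⟨s, X, c, x, hx⟩, hs⟩
  refine ⟨X, c, x, ?_⟩
  rw [hx]
  exact hs

end LocalLift

section ConesLimit

variable {E : Type u} [SmallCategory E] {𝒥 : Type} [SmallCategory 𝒥] (F : 𝒥 ⥤ E)

/-- the presheaf of cones over `F` -/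
abbrev conesPre : Eᵒᵖ ⥤ Type u := F.cones

/-- the `j`-th leg of a cone -/
def conesLeg (j : 𝒥) : conesPre F ⟶ yoneda.obj (F.obj j) where
  app X := TypeCat.ofHom (fun (s : (conesPre F).obj X) => s.app j)
  naturality X Y f := by
    ext s
    simp [Functor.cones]

@[simp] lemma conesLeg_app_apply (j : 𝒥) (X : Eᵒᵖ) (s : (conesPre F).obj X) :
    (conesLeg F j).app X s = s.app j := rfl

lemma conesPre_map_app {X Y : Eᵒᵖ} (f : X ⟶ Y) (s : (conesPre F).obj X) (j : 𝒥) :
    ((conesPre F).map f s).app j = f.unop ≫ s.app j := by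
  simp [Functor.cones]

/-- the cone with apex `F.cones` over `F ⋙ yoneda` -/
def conesCone : Cone (F ⋙ yoneda) where
  pt := conesPre F
  π :=
    { app j := conesLeg F j
      naturality j j' a := by
        ext X s
        have := (s : (Functor.const 𝒥).obj X.unop ⟶ F).naturality a
        change s.app j' = s.app j ≫ F.map a
        rw [← this]
        exact (Category.id_comp _).symm }

/-- `F.cones` is the limit of `F ⋙ yoneda` -/
def conesConeIsLimit : IsLimit (conesCone F) where
  lift s :=
    { app X := TypeCat.ofHom (fun y =>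
        ({ app j := (s.π.app j).app X y
           naturality j j' a := by
            have := congrFun (congrArg (fun k => ((k.app X) : _ → _)) (s.π.naturality a)) y
            simpa using this } : (Functor.const 𝒥).obj X.unop ⟶ F))
      naturality X Y f := by
        ext y
        apply NatTrans.ext
        funext j
        have := NatTrans.naturality_apply (s.π.app j) f y
        change (s.π.app j).app Y (s.pt.map f y) = ((conesPre F).map f _).app j
        rw [conesPre_map_app]
        exact this }
  fac s j := by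
    ext X y
    rfl
  uniq s m hm := by
    ext X y
    apply NatTrans.ext
    funext j
    have := congrFun (congrArg (fun k => ((k.app X) : _ → _)) (hm j)) y
    exact this

end ConesLimit

section Yoneda

variable {fn}
variable {P : Dᵒᵖ ⥤ Type u} {G : Cᵒᵖ ⥤ Type u} (ψ : P ⟶ fn.op ⋙ G)

lemma homEquiv_transp_comp {H : Sheaf J (Type u)}
    (g : (presheafToSheaf J (Type u)).obj G ⟶ H) :
    (adjL J fn).homEquiv _ _ (transp J ψ ≫ g) =
      ψ ≫ Functor.whiskerLeft fn.op ((sheafificationAdjunction J (Type u)).homEquiv _ _ g) := by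
  rw [Adjunction.homEquiv_naturality_right]
  unfold transp
  rw [Equiv.apply_symm_apply, Category.assoc]
  congr 1

lemma isIso_transp_of_bijective
    (h : ∀ H : Sheaf J (Type u), Function.Bijective
      (fun (g' : G ⟶ H.obj) => ψ ≫ Functor.whiskerLeft fn.op g')) : IsIso (transp J ψ) := by
  apply isIso_of_coyoneda_map_bijective
  intro H
  have : (fun (g : (presheafToSheaf J (Type u)).obj G ⟶ H) => transp J ψ ≫ g) =
      ((adjL J fn).homEquiv P H).symm ∘
      (fun (g' : G ⟶ H.obj) => ψ ≫ Functor.whiskerLeft fn.op g') ∘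
        ((sheafificationAdjunction J (Type u)).homEquiv G H) := by
    funext g
    simp only [Function.comp]
    rw [← homEquiv_transp_comp, Equiv.symm_apply_apply]
  rw [this]
  exact (Equiv.bijective _).comp ((h H).comp (Equiv.bijective _))

variable (fn)

/-- the map `yoneda X ⟶ fn.op ⋙ yoneda (fn X)` given by `fn.map` -/
def yonedaMap (X : D) : yoneda.obj X ⟶ fn.op ⋙ yoneda.obj (fn.obj X) where
  app T := TypeCat.ofHom (fun (c : T.unop ⟶ X) => fn.map c)
  naturality T T' f := by
    ext c
    simp

@[simp] lemma yonedaMap_app_apply (X : D) (T : Dᵒᵖ) (c : T.unop ⟶ X) :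
    (yonedaMap fn X).app T c = fn.map c := rfl

instance isIso_transp_yonedaMap (X : D) : IsIso (transp J (yonedaMap fn X)) := by
  apply isIso_transp_of_bijective
  intro H
  have : (fun (g' : yoneda.obj (fn.obj X) ⟶ H.obj) =>
      yonedaMap fn X ≫ Functor.whiskerLeft fn.op g') =
      (yonedaEquiv (F := fn.op ⋙ H.obj)).symm ∘ (yonedaEquiv (F := H.obj)) := by
    funext g'
    apply (yonedaEquiv (F := fn.op ⋙ H.obj)).injective
    simp only [Function.comp, Equiv.apply_symm_apply]
    simp only [yonedaEquiv, Equiv.coe_fn_mk, FunctorToTypes.comp, Functor.whiskerLeft_app,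
      Functor.op_obj, unop_op]
    rw [yonedaMap_app_apply, fn.map_id]
  rw [this]
  exact (Equiv.bijective _).comp (Equiv.bijective _)

end Yoneda

section CF

variable {fn}

lemma transp_naturality {P P' : Dᵒᵖ ⥤ Type u} {G G' : Cᵒᵖ ⥤ Type u}
    (ψ : P ⟶ fn.op ⋙ G) (ψ' : P' ⟶ fn.op ⋙ G') (p : P ⟶ P') (q : G ⟶ G')
    (h : ψ ≫ Functor.whiskerLeft fn.op q = p ≫ ψ') :
    transp J ψ ≫ (presheafToSheaf J (Type u)).map q = (LanSh J fn).map p ≫ transp J ψ' := by
  unfold transp
  rw [← Adjunction.homEquiv_naturality_right_symm, ← Adjunction.homEquiv_naturality_left_symm]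
  congr 1
  have : (ResPre J fn).map ((presheafToSheaf J (Type u)).map q) =
      Functor.whiskerLeft fn.op (sheafifyMap J q) := rfl
  rw [this, Category.assoc, ← Functor.whiskerLeft_comp, ← toSheafify_naturality,
    Functor.whiskerLeft_comp, ← Category.assoc, h, Category.assoc]

variable (fn)
variable {𝒥 : Type} [SmallCategory 𝒥] (F : 𝒥 ⥤ D)

/-- the image under `fn` of a cone over `F` -/
def conesImage : conesPre F ⟶ fn.op ⋙ conesPre (F ⋙ fn) where
  app X := TypeCat.ofHom (fun (s : (conesPre F).obj X) =>
    ({ app j := fn.map (s.app j)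
       naturality j j' a := by
        have := (s : (Functor.const 𝒥).obj X.unop ⟶ F).naturality a
        change 𝟙 _ ≫ s.app j' = _ at this
        change 𝟙 _ ≫ fn.map (s.app j') = fn.map (s.app j) ≫ fn.map (F.map a)
        rw [Category.id_comp] at this
        rw [Category.id_comp, ← fn.map_comp, ← this] } :
      (Functor.const 𝒥).obj (fn.obj X.unop) ⟶ F ⋙ fn))
  naturality X Y f := by
    ext s
    apply NatTrans.ext
    funext j
    change fn.map (((conesPre F).map f s).app j) = ((conesPre (F ⋙ fn)).map (fn.op.map f) _).app j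
    rw [conesPre_map_app, conesPre_map_app, fn.map_comp]
    rfl

@[simp] lemma conesImage_app_apply_app (X : Dᵒᵖ) (s : (conesPre F).obj X) (j : 𝒥) :
    ((conesImage fn F).app X s).app j = fn.map (s.app j) := rfl

lemma conesImage_leg (j : 𝒥) :
    conesImage fn F ≫ Functor.whiskerLeft fn.op (conesLeg (F ⋙ fn) j) =
      conesLeg F j ≫ yonedaMap fn (F.obj j) := by
  ext X s
  rfl

lemma yonedaMap_naturality {X Y : D} (f : X ⟶ Y) :
    yonedaMap fn X ≫ Functor.whiskerLeft fn.op (yoneda.map (fn.map f)) =
      yoneda.map f ≫ yonedaMap fn Y := by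
  ext T c
  change fn.map c ≫ fn.map f = fn.map (c ≫ f)
  rw [fn.map_comp]

variable [FinCategory 𝒥] [fn.IsContinuous K J]
  [PreservesFiniteLimits (fn.sheafPullback (Type u) K J)]

/-- the comparison of diagrams -/
noncomputable def diagIso :
    (F ⋙ yoneda) ⋙ LanSh J fn ≅ ((F ⋙ fn) ⋙ yoneda) ⋙ presheafToSheaf J (Type u) :=
  NatIso.ofComponents (fun j => asIso (transp J (yonedaMap fn (F.obj j))))
    (fun {j j'} a => by
      exact (transp_naturality J _ _ _ _ (yonedaMap_naturality fn (F.map a))).symm)

include K in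
theorem isIso_transp_conesImage : IsIso (transp J (conesImage fn F)) := by
  have : PreservesFiniteLimits (LanSh J fn) := preservesFiniteLimits_lanSh J K fn
  have h1 : IsLimit ((LanSh J fn).mapCone (conesCone F)) :=
    isLimitOfPreserves _ (conesConeIsLimit F)
  have h2 : IsLimit ((presheafToSheaf J (Type u)).mapCone (conesCone (F ⋙ fn))) :=
    isLimitOfPreserves _ (conesConeIsLimit _)
  have : transp J (conesImage fn F) =
      (IsLimit.conePointsIsoOfNatIso h1 h2 (diagIso J fn F)).hom := by
    apply h2.hom_ext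
    intro j
    refine Eq.trans ?_ (IsLimit.conePointsIsoOfNatIso_hom_comp h1 h2 (diagIso J fn F) j).symm
    exact transp_naturality J _ _ _ _ (conesImage_leg fn F j)
  rw [this]
  infer_instance

include K in
/-- **Covering flatness**: every cone over `F ⋙ fn` locally factors through the image of a cone
over `F`. -/
theorem covFlat {T : C} (s : (Functor.const 𝒥).obj T ⟶ F ⋙ fn) :
    ∃ S ∈ J T, ∀ ⦃T' : C⦄ (t : T' ⟶ T), S t →
      ∃ (X : D) (c : T' ⟶ fn.obj X) (x : (Functor.const 𝒥).obj X ⟶ F),
        ∀ j, c ≫ fn.map (x.app j) = t ≫ s.app j := by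
  have hiso := isIso_transp_conesImage J K fn F
  obtain ⟨S, hS, h⟩ := local_lift J (conesImage fn F) inferInstance
    (G := conesPre (F ⋙ fn)) (T := T) s
  refine ⟨S, hS, fun T' t ht => ?_⟩
  obtain ⟨X, c, x, hx⟩ := h t ht
  refine ⟨X, c, x, fun j => ?_⟩
  have := congrArg (fun (k : (Functor.const 𝒥).obj T' ⟶ F ⋙ fn) => k.app j) hx
  simp only at this
  rw [conesPre_map_app, conesPre_map_app] at this
  exact this

end CF

end Groth.Agent.Lib.Helper74.ModPull
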