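import Groth.Agent.Lib.Helper74.ModPull.Theta

/-!
# Inverse image of modules preserves quasi-coherence, finite type, finite presentation,
local freeness
-/

set_option autoImplicit false
universe u
open CategoryTheory Limits Opposite

namespace Groth.Agent.Lib.Helper74.ModPull

variable {C D : Type u} [SmallCategory C] [SmallCategory D]
  {J : GrothendieckTopology C} {K : GrothendieckTopology D}
  (fn : D ⥤ C) [fn.IsContinuous K J] [PreservesFiniteLimits (fn.sheafPullback (Type u) K J)]
  {R_C : Sheaf J RingCat.{u}} {R_D : Sheaf K RingCat.{u}}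
  (φ : R_D ⟶ (fn.sheafPushforwardContinuous RingCat.{u} K J).obj R_C)

/-- the localized inverse image of the unit is the unit -/
noncomputable def unitIsoV (V : D) : SheafOfModules.unit (R_C.over (fn.obj V)) ≅
    (pullV fn φ V).obj (SheafOfModules.unit (R_D.over V)) :=
  (asIso (SheafOfModules.pullbackObjUnitToUnit (phiOver fn φ V))).symm

variable (N : SheafOfModules.{u} R_D)

/-- transport of quasi-coherent data -/
noncomputable def quasicoherentDataPull (q : N.QuasicoherentData) :
    ((SheafOfModules.pullback.{u} φ).obj N).QuasicoherentData where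
  I := q.I
  X i := fn.obj (q.X i)
  coversTop := coversTop_map J K fn q.coversTop
  presentation i :=
    ((q.presentation i).map (pullV fn φ (q.X i)) (unitIsoV fn φ (q.X i))).ofIsIso
      (thetaIso fn φ (q.X i) N).hom

theorem isQuasicoherent_pull [N.IsQuasicoherent] :
    ((SheafOfModules.pullback.{u} φ).obj N).IsQuasicoherent :=
  (quasicoherentDataPull fn φ N
    (SheafOfModules.IsQuasicoherent.nonempty_quasicoherentData (M := N)).some).isQuasicoherent

instance presentation_map_isFinite {E E' : Type u} [SmallCategory E] [SmallCategory E']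
    {L : GrothendieckTopology E} {L' : GrothendieckTopology E'}
    {R : Sheaf L RingCat.{u}} {R' : Sheaf L' RingCat.{u}} {M : SheafOfModules.{u} R}
    (P : M.Presentation) (F : SheafOfModules.{u} R ⥤ SheafOfModules.{u} R')
    [PreservesColimitsOfSize.{u, u} F] (η : SheafOfModules.unit R' ≅ F.obj (SheafOfModules.unit R))
    [P.IsFinite] : (P.map F η).IsFinite where
  isFiniteType_generators := ⟨inferInstanceAs (Finite P.generators.I)⟩
  isFiniteType_relations := ⟨inferInstanceAs (Finite P.relations.I)⟩

theorem isFinitePresentation_pull [hN : N.IsFinitePresentation] :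
    ((SheafOfModules.pullback.{u} φ).obj N).IsFinitePresentation := by
  obtain ⟨σ, hσ⟩ := hN.exists_quasicoherentData
  have h : (quasicoherentDataPull fn φ N σ).IsFinitePresentation := by
    constructor
    intro i
    have := hσ.isFinite_presentation i
    exact inferInstanceAs (((σ.presentation i).map (pullV fn φ (σ.X i))
      (unitIsoV fn φ (σ.X i))).ofIsIso (thetaIso fn φ (σ.X i) N).hom).IsFinite
  constructor
  exact ⟨_, h⟩

/-- transport of local generators -/
noncomputable def localGeneratorsDataPull (q : N.LocalGeneratorsData) :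
    ((SheafOfModules.pullback.{u} φ).obj N).LocalGeneratorsData where
  I := q.I
  X i := fn.obj (q.X i)
  coversTop := coversTop_map J K fn q.coversTop
  generators i :=
    ((q.generators i).map (pullV fn φ (q.X i)) (unitIsoV fn φ (q.X i))).ofEpi
      (thetaIso fn φ (q.X i) N).hom

theorem isFiniteType_pull [hN : N.IsFiniteType] :
    ((SheafOfModules.pullback.{u} φ).obj N).IsFiniteType := by
  obtain ⟨σ, hσ⟩ := hN.exists_localGeneratorsData
  have h : (localGeneratorsDataPull fn φ N σ).IsFiniteType := by
    constructor
    intro i
    have := hσ.isFiniteType i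
    exact inferInstanceAs (((σ.generators i).map (pullV fn φ (σ.X i))
      (unitIsoV fn φ (σ.X i))).ofEpi (thetaIso fn φ (σ.X i) N).hom).IsFiniteType
  constructor
  exact ⟨_, h⟩

theorem isLocallyFree_pull [hN : N.IsLocallyFree] :
    ((SheafOfModules.pullback.{u} φ).obj N).IsLocallyFree := by
  obtain ⟨σ, hσ⟩ := hN.exists_isLocallyFreeData
  have h : (localGeneratorsDataPull fn φ N σ).IsLocallyFreeData := by
    constructor
    intro i
    have := hσ.isIso i
    change IsIso (((σ.generators i).map (pullV fn φ (σ.X i))
      (unitIsoV fn φ (σ.X i))).ofEpi (thetaIso fn φ (σ.X i) N).hom).π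
    rw [SheafOfModules.GeneratingSections.ofEpi_π]
    have h1 : IsIso ((σ.generators i).map (pullV fn φ (σ.X i)) (unitIsoV fn φ (σ.X i))).π :=
      inferInstance
    have h2 : IsIso (thetaIso fn φ (σ.X i) N).hom := inferInstance
    exact @IsIso.comp_isIso _ _ _ _ _ _ _ h1 h2
  constructor
  exact ⟨_, h⟩

end Groth.Agent.Lib.Helper74.ModPull
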