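import Groth.Agent.Lib.Helper74.ModPull.OverPost

/-!
# The key lemma: sections over `h_{fn W}|_{fn V}` of a sheaf on `C/fn V` are sections over `h_W|_V`
of its restriction to `D/V`
-/

set_option autoImplicit false
universe u
open CategoryTheory Limits Opposite

namespace Groth.Agent.Lib.Helper74.ModPull

variable {C D : Type u} [SmallCategory C] [SmallCategory D]
  (J : GrothendieckTopology C) (K : GrothendieckTopology D) (fn : D ⥤ C)
  (V W : D)

/-- the presheaf `h_W|_V` on `D/V` -/
abbrev hOver {E : Type u} [SmallCategory E] (X Y : E) : (Over X)ᵒᵖ ⥤ Type u :=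
  (Over.forget X).op ⋙ yoneda.obj Y

variable {Q : (Over (fn.obj V))ᵒᵖ ⥤ Type u}

/-- restriction of a family of sections along `fn` -/
def rho (m : hOver (fn.obj V) (fn.obj W) ⟶ Q) : hOver V W ⟶ (Over.post fn).op ⋙ Q where
  app S := TypeCat.ofHom (fun (p : S.unop.left ⟶ W) =>
    m.app (op ((Over.post fn).obj S.unop)) (fn.map p))
  naturality S S' g := by
    ext p
    have := NatTrans.naturality_apply m ((Over.post fn).map g.unop).op (fn.map p)
    change m.app (op ((Over.post fn).obj S'.unop)) (fn.map (g.unop.left ≫ p)) =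
      Q.map ((Over.post fn).map g.unop).op (m.app (op ((Over.post fn).obj S.unop)) (fn.map p))
    refine Eq.trans ?_ this
    congr 1
    exact fn.map_comp _ _

@[simp] lemma rho_app_apply (m : hOver (fn.obj V) (fn.obj W) ⟶ Q) (S : (Over V)ᵒᵖ)
    (p : S.unop.left ⟶ W) :
    (rho fn V W m).app S p = m.app (op ((Over.post fn).obj S.unop)) (fn.map p) := rfl

variable {fn V W}

/-- `y` is the glueing of the local sections defined by `n` -/
def IsGlue (n : hOver V W ⟶ (Over.post fn).op ⋙ Q) (T : Over (fn.obj V))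
    (q : T.left ⟶ fn.obj W) (y : Q.obj (op T)) : Prop :=
  ∀ ⦃T' : Over (fn.obj V)⦄ (t : T' ⟶ T) (S : Over V) (c : T' ⟶ (Over.post fn).obj S)
    (p : S.left ⟶ W), c.left ≫ fn.map p = t.left ≫ q →
      Q.map t.op y = Q.map c.op (n.app (op S) p)

lemma isGlue_rho (m : hOver (fn.obj V) (fn.obj W) ⟶ Q) (T : Over (fn.obj V))
    (q : T.left ⟶ fn.obj W) : IsGlue (rho fn V W m) T q (m.app (op T) q) := by
  intro T' t S c p h
  have h1 := NatTrans.naturality_apply m t.op q
  have h2 := NatTrans.naturality_apply m c.op (fn.map p)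
  rw [rho_app_apply, ← h1, ← h2]
  congr 1
  exact h.symm

lemma IsGlue.map {n : hOver V W ⟶ (Over.post fn).op ⋙ Q} {T : Over (fn.obj V)}
    {q : T.left ⟶ fn.obj W} {y : Q.obj (op T)} (hy : IsGlue n T q y)
    {T₁ : Over (fn.obj V)} (g : T₁ ⟶ T) : IsGlue n T₁ (g.left ≫ q) (Q.map g.op y) := by
  intro T' t S c p h
  have := hy (t ≫ g) S c p (by rw [h]; simp)
  rw [← this, op_comp, Functor.map_comp]
  rfl

variable [fn.IsContinuous K J] [PreservesFiniteLimits (fn.sheafPullback (Type u) K J)]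
  (hQ : Presieve.IsSheaf (J.over (fn.obj V)) Q)

include K hQ in
lemma IsGlue.unique {n : hOver V W ⟶ (Over.post fn).op ⋙ Q} {T : Over (fn.obj V)}
    {q : T.left ⟶ fn.obj W} {y y' : Q.obj (op T)} (hy : IsGlue n T q y) (hy' : IsGlue n T q y') :
    y = y' := by
  obtain ⟨R, hR, h⟩ := covFlat_over_pair J K fn V W T q
  refine (hQ.isSeparated _ hR).ext (fun T' t ht => ?_)
  obtain ⟨S, c, p, hc⟩ := h t ht
  rw [hy t S c p hc, hy' t S c p hc]

include K hQ in
/-- two local descriptions agree -/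
lemma wellDefined (n : hOver V W ⟶ (Over.post fn).op ⋙ Q) (T : Over (fn.obj V)) (S₁ S₂ : Over V)
    (c₁ : T ⟶ (Over.post fn).obj S₁) (c₂ : T ⟶ (Over.post fn).obj S₂)
    (p₁ : S₁.left ⟶ W) (p₂ : S₂.left ⟶ W) (hp : c₁.left ≫ fn.map p₁ = c₂.left ≫ fn.map p₂) :
    Q.map c₁.op (n.app (op S₁) p₁) = Q.map c₂.op (n.app (op S₂) p₂) := by
  obtain ⟨R, hR, h⟩ := covFlat_over_two J K fn V W T S₁ S₂ c₁ c₂ p₁ p₂ hp
  refine (hQ.isSeparated _ hR).ext (fun T' t ht => ?_)
  obtain ⟨X, c', e₁, e₂, he, h1, h2⟩ := h t ht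
  have n1 := NatTrans.naturality_apply n e₁.op p₁
  have n2 := NatTrans.naturality_apply n e₂.op p₂
  have k1 : Q.map t.op (Q.map c₁.op (n.app (op S₁) p₁)) =
      Q.map c'.op (Q.map ((Over.post fn).map e₁).op (n.app (op S₁) p₁)) := by
    rw [← Functor.map_comp_apply, ← Functor.map_comp_apply, ← op_comp, ← op_comp, h1]
  have k2 : Q.map t.op (Q.map c₂.op (n.app (op S₂) p₂)) =
      Q.map c'.op (Q.map ((Over.post fn).map e₂).op (n.app (op S₂) p₂)) := by
    rw [← Functor.map_comp_apply, ← Functor.map_comp_apply, ← op_comp, ← op_comp, h2]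
  rw [k1, k2]
  congr 1
  refine n1.symm.trans (Eq.trans ?_ n2)
  exact congrArg (fun z => n.app (op X) z) he

include K hQ in
lemma exists_isGlue (n : hOver V W ⟶ (Over.post fn).op ⋙ Q) (T : Over (fn.obj V))
    (q : T.left ⟶ fn.obj W) : ∃ y, IsGlue n T q y := by
  obtain ⟨R, hR, h⟩ := covFlat_over_pair J K fn V W T q
  choose S c p hc using h
  let x : Presieve.FamilyOfElements Q R.arrows :=
    fun T' t ht => Q.map (c t ht).op (n.app (op (S t ht)) (p t ht))
  have hx : x.Compatible := by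
    intro Y₁ Y₂ Z g₁ g₂ t₁ t₂ h₁ h₂ hcomm
    change Q.map g₁.op (Q.map (c t₁ h₁).op _) = Q.map g₂.op (Q.map (c t₂ h₂).op _)
    rw [← Functor.map_comp_apply, ← Functor.map_comp_apply, ← op_comp, ← op_comp]
    apply wellDefined J K hQ n Z
    rw [Over.comp_left, Over.comp_left, Category.assoc, Category.assoc, hc, hc,
      ← Category.assoc, ← Category.assoc, ← Over.comp_left, ← Over.comp_left, hcomm]
  obtain ⟨y, hy, -⟩ := hQ R hR x hx
  refine ⟨y, ?_⟩
  intro T' t S' c' p' h'
  refine (hQ.isSeparated _ ((J.over _).pullback_stable t hR)).ext (fun T'' r hr => ?_)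
  have hr' : R (r ≫ t) := hr
  rw [← Functor.map_comp_apply, ← Functor.map_comp_apply, ← op_comp, ← op_comp, hy (r ≫ t) hr']
  apply wellDefined J K hQ n T''
  rw [hc, Over.comp_left, Over.comp_left, Category.assoc, Category.assoc, h']

include K hQ in
/-- **Key lemma**: restriction along `fn` is bijective on sections over `h_{fn W}|_{fn V}` -/
theorem rho_bijective : Function.Bijective (rho fn V W (Q := Q)) := by
  constructor
  · intro m m' h
    ext T q
    exact IsGlue.unique J K hQ (isGlue_rho m T.unop q) (h ▸ isGlue_rho m' T.unop q)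
  · intro n
    choose y hy using fun (T : Over (fn.obj V)) (q : T.left ⟶ fn.obj W) =>
      exists_isGlue J K hQ n T q
    refine ⟨{ app := fun T => TypeCat.ofHom (fun q => y T.unop q), naturality := ?_ }, ?_⟩
    · intro T T₁ g
      ext q
      exact IsGlue.unique J K hQ (hy _ _) ((hy _ q).map g.unop)
    · ext S p
      have := hy ((Over.post fn).obj S.unop) (fn.map p) (𝟙 _) S.unop (𝟙 _) p (by simp)
      simp only [op_id, Functor.map_id_apply] at this
      exact this

end Groth.Agent.Lib.Helper74.ModPull
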