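import Mathlib

/-!
# Sheafified free modules on representables and their restrictions to `E/X`
-/

set_option autoImplicit false
universe u
open CategoryTheory Limits Opposite

namespace Groth.Agent.Lib.Helper74.ModPull

variable {E : Type u} [SmallCategory E] {L : GrothendieckTopology E} (R : Sheaf L RingCat.{u})

/-- sheafification of presheaves of modules -/
noncomputable abbrev shf : PresheafOfModules.{u} R.obj ⥤ SheafOfModules.{u} R :=
  PresheafOfModules.sheafification.{u} (𝟙 R.obj)

/-- the sheafification adjunction -/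
noncomputable abbrev shfAdj : shf R ⊣ SheafOfModules.forget R :=
  PresheafOfModules.sheafificationAdjunction.{u} (𝟙 R.obj)

/-- the unit of the sheafification adjunction -/
noncomputable abbrev shfUnit (P : PresheafOfModules.{u} R.obj) : P ⟶ ((shf R).obj P).val :=
  (shfAdj R).unit.app P

section LocBij

lemma isIso_shf_map_iff {M M' : PresheafOfModules.{u} R.obj} (f : M ⟶ M') :
    IsIso ((shf R).map f) ↔
      PresheafOfModules.IsLocallyInjective L f ∧ PresheafOfModules.IsLocallySurjective L f := by
  have h := PresheafOfModules.inverseImage_W_toPresheaf_eq_inverseImage_isomorphisms.{u}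
    (J := L) (R := R) (𝟙 R.obj)
  have h1 : (L.W.inverseImage (PresheafOfModules.toPresheaf R.obj)) f ↔
      ((MorphismProperty.isomorphisms _).inverseImage
        (PresheafOfModules.sheafification.{u} (𝟙 R.obj))) f := by rw [h]
  have h' : L.W ((PresheafOfModules.toPresheaf _).map f) ↔
      IsIso ((PresheafOfModules.sheafification.{u} (𝟙 R.obj)).map f) := h1
  rw [← h', L.W_iff_isLocallyBijective]

lemma isIso_shf_map_unit (M : PresheafOfModules.{u} R.obj) :
    IsIso ((shf R).map (shfUnit R M)) := by
  have h := (shfAdj R).left_triangle_components M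
  have h3 : IsIso ((shfAdj R).counit.app ((shf R).obj M)) := inferInstance
  have h2 : IsIso ((shf R).map ((shfAdj R).unit.app M) ≫
      (shfAdj R).counit.app ((shf R).obj M)) := by
    rw [h]; infer_instance
  exact @IsIso.of_isIso_comp_right _ _ _ _ _ _ _ h3 h2

lemma shfUnit_isLocallyBijective (M : PresheafOfModules.{u} R.obj) :
    PresheafOfModules.IsLocallyInjective L (shfUnit R M) ∧
      PresheafOfModules.IsLocallySurjective L (shfUnit R M) :=
  (isIso_shf_map_iff R _).mp (isIso_shf_map_unit R M)

/-- universal property of a locally bijective map to a sheaf -/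
lemma bijective_precomp' {P₁ : PresheafOfModules.{u} R.obj} {M₁ : SheafOfModules.{u} R}
    (a : P₁ ⟶ (SheafOfModules.forget R).obj M₁) (ha : IsIso ((shf R).map a))
    (M : SheafOfModules.{u} R) :
    Function.Bijective (fun (m : M₁ ⟶ M) => a ≫ (SheafOfModules.forget R).map m) := by
  have hc : IsIso ((shfAdj R).counit.app M₁) := inferInstance
  have key : ∀ m : M₁ ⟶ M, a ≫ (SheafOfModules.forget R).map m =
      (shfAdj R).homEquiv _ _ (((shf R).map a ≫ (shfAdj R).counit.app M₁) ≫ m) := by
    intro m
    refine (Equiv.symm_apply_eq _).mp ?_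
    rw [Adjunction.homEquiv_counit, Functor.map_comp, Category.assoc, Category.assoc]
    congr 1
    exact (shfAdj R).counit.naturality m
  have : (fun (m : M₁ ⟶ M) => a ≫ (SheafOfModules.forget R).map m) =
      (shfAdj R).homEquiv _ _ ∘
      (fun (m : M₁ ⟶ M) => ((shf R).map a ≫ (shfAdj R).counit.app M₁) ≫ m) := funext key
  rw [this]
  have hiso : IsIso ((shf R).map a ≫ (shfAdj R).counit.app M₁) :=
    @IsIso.comp_isIso _ _ _ _ _ _ _ ha hc
  exact (Equiv.bijective _).comp
    ((isIso_iff_coyoneda_map_bijective _).mp hiso M)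

lemma bijective_precomp {P₁ : PresheafOfModules.{u} R.obj} {M₁ : SheafOfModules.{u} R}
    (a : P₁ ⟶ M₁.val) (ha : IsIso ((shf R).map a)) (M : SheafOfModules.{u} R) :
    Function.Bijective (fun (m : M₁ ⟶ M) => a ≫ m.val) :=
  bijective_precomp' R a ha M

end LocBij

section Restr

variable (X : E)

/-- restriction of presheaves of modules to `E/X` -/
noncomputable abbrev resP :
    PresheafOfModules.{u} R.obj ⥤ PresheafOfModules.{u} (R.over X).obj :=
  PresheafOfModules.pushforward.{u} (F := Over.forget X)
    (show R.over X ⟶ R.over X from 𝟙 _).hom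

variable {R X} {P P' : PresheafOfModules.{u} R.obj} (ψ : P ⟶ P')

lemma isLocallyInjective_resP [PresheafOfModules.IsLocallyInjective L ψ] :
    PresheafOfModules.IsLocallyInjective (L.over X) ((resP R X).map ψ) := by
  constructor
  intro W x y h
  obtain ⟨Y⟩ := W
  let x' : P.obj (op Y.left) := x
  let y' : P.obj (op Y.left) := y
  have h' : ψ.app (op Y.left) x' = ψ.app (op Y.left) y' := h
  have hE := Presheaf.equalizerSieve_mem L ((PresheafOfModules.toPresheaf _).map ψ)
    (X := op Y.left) x' y' h'
  refine (L.over X).superset_covering ?_ (L.overEquiv_symm_mem_over Y _ hE)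
  intro Z f hf
  exact hf

lemma isLocallySurjective_resP [PresheafOfModules.IsLocallySurjective L ψ] :
    PresheafOfModules.IsLocallySurjective (L.over X) ((resP R X).map ψ) := by
  constructor
  intro Y s
  let s' : P'.obj (op Y.left) := s
  have hE := Presheaf.imageSieve_mem L ((PresheafOfModules.toPresheaf _).map ψ)
    (U := op Y.left) s'
  refine (L.over X).superset_covering ?_ (L.overEquiv_symm_mem_over Y _ hE)
  intro Z f hf
  exact hf

variable (R X)

lemma isIso_shf_map_resP_unit (P : PresheafOfModules.{u} R.obj) :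
    IsIso ((shf (R.over X)).map ((resP R X).map (shfUnit R P))) := by
  have hη := shfUnit_isLocallyBijective R P
  have := hη.1
  have := hη.2
  exact (isIso_shf_map_iff _ _).mpr
    ⟨isLocallyInjective_resP (X := X) (shfUnit R P), isLocallySurjective_resP (X := X) (shfUnit R P)⟩

/-- `Hom((shf P)|_X, M) ≃ Hom(P|_X, M)` -/
noncomputable def restrShfHomEquiv (P : PresheafOfModules.{u} R.obj)
    (M : SheafOfModules.{u} (R.over X)) :
    ((SheafOfModules.overFunctor R X).obj ((shf R).obj P) ⟶ M) ≃ ((resP R X).obj P ⟶ M.val) :=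
  Equiv.ofBijective (fun m => (resP R X).map (shfUnit R P) ≫ m.val)
    (bijective_precomp (R.over X)
      (M₁ := (SheafOfModules.overFunctor R X).obj ((shf R).obj P))
      ((resP R X).map (shfUnit R P)) (isIso_shf_map_resP_unit R X P) M)

end Restr

section Gen

/-- the sheafified free module on a presheaf of sets -/
noncomputable abbrev freeSh (P : Eᵒᵖ ⥤ Type u) : SheafOfModules.{u} R :=
  (shf R).obj ((PresheafOfModules.free R.obj).obj P)

/-- the section of `freeSh P` over `S` attached to `x ∈ P(S)` -/
noncomputable def freeShSec (P : Eᵒᵖ ⥤ Type u) {S : Eᵒᵖ} (x : P.obj S) :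
    (freeSh R P).val.obj S :=
  (shfUnit R ((PresheafOfModules.free R.obj).obj P)).app S (ModuleCat.freeMk x)

lemma freeShSec_map (P : Eᵒᵖ ⥤ Type u) {S S' : Eᵒᵖ} (f : S ⟶ S') (x : P.obj S) :
    (freeSh R P).val.map f (freeShSec R P x) = freeShSec R P (P.map f x) := by
  unfold freeShSec
  rw [← PresheafOfModules.naturality_apply]
  congr 1
  exact ModuleCat.freeDesc_apply _ x

/-- `Hom(freeSh P, M) ≃ Hom(P, M)` -/
noncomputable def freeShHomEquiv (P : Eᵒᵖ ⥤ Type u) (M : SheafOfModules.{u} R) :
    (freeSh R P ⟶ M) ≃ (P ⟶ M.val.presheaf ⋙ forget Ab) :=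
  ((shfAdj R).homEquiv _ _).trans PresheafOfModules.freeHomEquiv

lemma freeShHomEquiv_app_apply (P : Eᵒᵖ ⥤ Type u) (M : SheafOfModules.{u} R)
    (m : freeSh R P ⟶ M) (S : Eᵒᵖ) (x : P.obj S) :
    (freeShHomEquiv R P M m).app S x = m.val.app S (freeShSec R P x) := rfl

/-- `Hom((freeSh P)|_X, M) ≃ Hom(P|_X, M)` -/
noncomputable def freeShOverEquiv (X : E) (P : Eᵒᵖ ⥤ Type u)
    (M : SheafOfModules.{u} (R.over X)) :
    ((SheafOfModules.overFunctor R X).obj (freeSh R P) ⟶ M) ≃
      ((Over.forget X).op ⋙ P ⟶ M.val.presheaf ⋙ forget Ab) :=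
  (restrShfHomEquiv R X _ M).trans
    (PresheafOfModules.freeHomEquiv (F := (Over.forget X).op ⋙ P) (G := M.val))

lemma freeShOverEquiv_app_apply (X : E) (P : Eᵒᵖ ⥤ Type u)
    (M : SheafOfModules.{u} (R.over X))
    (m : (SheafOfModules.overFunctor R X).obj (freeSh R P) ⟶ M) (S : (Over X)ᵒᵖ)
    (x : P.obj (op S.unop.left)) :
    (freeShOverEquiv R X P M m).app S x =
      m.val.app S (freeShSec R P (S := op S.unop.left) x) := rfl

variable (W : E)

/-- the generator attached to `W` -/
noncomputable abbrev gen : SheafOfModules.{u} R := freeSh R (yoneda.obj W)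

/-- the tautological section of `gen W` over `S` attached to `p : S ⟶ W` -/
noncomputable abbrev genSec {S : E} (p : S ⟶ W) : (gen R W).val.obj (op S) :=
  freeShSec R (yoneda.obj W) (S := op S) p

lemma genSec_map {S S' : E} (g : S' ⟶ S) (p : S ⟶ W) :
    (gen R W).val.map g.op (genSec R W p) = genSec R W (g ≫ p) :=
  freeShSec_map R (yoneda.obj W) g.op p

/-- `Hom(gen W, M) ≃ M(W)` -/
noncomputable def genHomEquiv (M : SheafOfModules.{u} R) :
    (gen R W ⟶ M) ≃ M.val.obj (op W) :=
  (freeShHomEquiv R (yoneda.obj W) M).trans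
    (yonedaEquiv (F := M.val.presheaf ⋙ forget Ab))

lemma genHomEquiv_apply (M : SheafOfModules.{u} R) (m : gen R W ⟶ M) :
    genHomEquiv R W M m = m.val.app (op W) (genSec R W (𝟙 W)) := rfl

end Gen

end Groth.Agent.Lib.Helper74.ModPull
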