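import Groth.Agent.Lib.Helper74.ModPull.CovFlat

/-!
# Consequences of covering-flatness: `Over.post fn` is continuous
-/

set_option autoImplicit false
universe u
open CategoryTheory Limits Opposite

namespace Groth.Agent.Lib.Helper74.ModPull

variable {C D : Type u} [SmallCategory C] [SmallCategory D]
  (J : GrothendieckTopology C) (K : GrothendieckTopology D) (fn : D ⥤ C)

section Multi

variable {Sh : MulticospanShape.{0, 0}}

/-- components of the cone over a multicospan -/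
def multiConeApp (I : MulticospanIndex Sh D) {T : C} (c : ∀ a, T ⟶ fn.obj (I.left a)) :
    ∀ x : WalkingMulticospan Sh, T ⟶ fn.obj (I.multicospan.obj x)
  | .left a => c a
  | .right b => c (Sh.fst b) ≫ fn.map (I.fst b)

/-- the cone over a multicospan -/
def multiCone (I : MulticospanIndex Sh D) {T : C} (c : ∀ a, T ⟶ fn.obj (I.left a))
    (hc : ∀ b, c (Sh.fst b) ≫ fn.map (I.fst b) = c (Sh.snd b) ≫ fn.map (I.snd b)) :
    (Functor.const (WalkingMulticospan Sh)).obj T ⟶ I.multicospan ⋙ fn where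
  app := multiConeApp fn I c
  naturality := by
    rintro _ _ (_ | b | b)
    · simp
    · change 𝟙 _ ≫ (c (Sh.fst b) ≫ fn.map (I.fst b)) = c (Sh.fst b) ≫ fn.map (I.fst b)
      simp
    · change 𝟙 _ ≫ (c (Sh.fst b) ≫ fn.map (I.fst b)) = c (Sh.snd b) ≫ fn.map (I.snd b)
      rw [Category.id_comp, hc]

variable [Fintype Sh.L] [Fintype Sh.R] [DecidableEq Sh.L] [DecidableEq Sh.R]
  [fn.IsContinuous K J] [PreservesFiniteLimits (fn.sheafPullback (Type u) K J)]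

include K in
theorem covFlat_multi (I : MulticospanIndex Sh D) {T : C} (c : ∀ a, T ⟶ fn.obj (I.left a))
    (hc : ∀ b, c (Sh.fst b) ≫ fn.map (I.fst b) = c (Sh.snd b) ≫ fn.map (I.snd b)) :
    ∃ S ∈ J T, ∀ ⦃T' : C⦄ (t : T' ⟶ T), S t →
      ∃ (X : D) (c' : T' ⟶ fn.obj X) (e : ∀ a, X ⟶ I.left a),
        (∀ b, e (Sh.fst b) ≫ I.fst b = e (Sh.snd b) ≫ I.snd b) ∧
          ∀ a, c' ≫ fn.map (e a) = t ≫ c a := by
  obtain ⟨S, hS, h⟩ := covFlat J K fn I.multicospan (multiCone fn I c hc)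
  refine ⟨S, hS, fun T' t ht => ?_⟩
  obtain ⟨X, c', x, hx⟩ := h t ht
  refine ⟨X, c', fun a => x.app (.left a), fun b => ?_, fun a => hx (.left a)⟩
  have h1 := x.naturality (WalkingMulticospan.Hom.fst b)
  have h2 := x.naturality (WalkingMulticospan.Hom.snd b)
  change 𝟙 _ ≫ x.app (.right b) = x.app (.left (Sh.fst b)) ≫ I.fst b at h1
  change 𝟙 _ ≫ x.app (.right b) = x.app (.left (Sh.snd b)) ≫ I.snd b at h2
  exact h1.symm.trans h2

end Multi

section Special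

variable [fn.IsContinuous K J] [PreservesFiniteLimits (fn.sheafPullback (Type u) K J)]

include K in
/-- every object of `C` is locally the source of a map to the image of `fn` -/
theorem covFlat_zero (T : C) :
    ∃ S ∈ J T, ∀ ⦃T' : C⦄ (t : T' ⟶ T), S t → ∃ X : D, Nonempty (T' ⟶ fn.obj X) := by
  let Sh : MulticospanShape.{0, 0} := ⟨PEmpty, PEmpty, PEmpty.elim, PEmpty.elim⟩
  let I : MulticospanIndex Sh D :=
    { left := fun a => PEmpty.elim a
      right := fun a => PEmpty.elim a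
      fst := fun b => PEmpty.elim b
      snd := fun b => PEmpty.elim b }
  have : Fintype Sh.L := inferInstanceAs (Fintype PEmpty)
  have : Fintype Sh.R := inferInstanceAs (Fintype PEmpty)
  have : DecidableEq Sh.L := inferInstanceAs (DecidableEq PEmpty)
  have : DecidableEq Sh.R := inferInstanceAs (DecidableEq PEmpty)
  obtain ⟨S, hS, h⟩ := covFlat_multi J K fn I (T := T) (fun a => PEmpty.elim a)
    (fun b => PEmpty.elim b)
  refine ⟨S, hS, fun T' t ht => ?_⟩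
  obtain ⟨X, c', -, -, -⟩ := h t ht
  exact ⟨X, ⟨c'⟩⟩

include K in
/-- covering flatness for two objects mapping to a finite family of objects -/
theorem covFlat_two {R : Type} [Fintype R] [DecidableEq R] {S₁ S₂ : D} (Y : R → D)
    (p₁ : ∀ r, S₁ ⟶ Y r) (p₂ : ∀ r, S₂ ⟶ Y r) {T : C} (c₁ : T ⟶ fn.obj S₁) (c₂ : T ⟶ fn.obj S₂)
    (hc : ∀ r, c₁ ≫ fn.map (p₁ r) = c₂ ≫ fn.map (p₂ r)) :
    ∃ S ∈ J T, ∀ ⦃T' : C⦄ (t : T' ⟶ T), S t →
      ∃ (X : D) (c' : T' ⟶ fn.obj X) (e₁ : X ⟶ S₁) (e₂ : X ⟶ S₂),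
        (∀ r, e₁ ≫ p₁ r = e₂ ≫ p₂ r) ∧ c' ≫ fn.map e₁ = t ≫ c₁ ∧ c' ≫ fn.map e₂ = t ≫ c₂ := by
  let Sh : MulticospanShape.{0, 0} := ⟨Bool, R, fun _ => false, fun _ => true⟩
  let I : MulticospanIndex Sh D :=
    { left := fun a => Bool.rec S₁ S₂ a
      right := Y
      fst := p₁
      snd := p₂ }
  have : Fintype Sh.L := inferInstanceAs (Fintype Bool)
  have : Fintype Sh.R := inferInstanceAs (Fintype R)
  have : DecidableEq Sh.L := inferInstanceAs (DecidableEq Bool)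
  have : DecidableEq Sh.R := inferInstanceAs (DecidableEq R)
  obtain ⟨S, hS, h⟩ := covFlat_multi J K fn I (T := T)
    (fun a => Bool.rec (motive := fun a => T ⟶ fn.obj (I.left a)) c₁ c₂ a) hc
  refine ⟨S, hS, fun T' t ht => ?_⟩
  obtain ⟨X, c', e, he, hce⟩ := h t ht
  exact ⟨X, c', e false, e true, he, hce false, hce true⟩

end Special

section OverPost

variable [fn.IsContinuous K J] [PreservesFiniteLimits (fn.sheafPullback (Type u) K J)]

include K in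
theorem compatiblePreserving_overPost (V : D) :
    CompatiblePreserving.{u} (J.over (fn.obj V)) (Over.post (X := V) fn) where
  compatible ℱ {Z} {T} {x} hx {Y₁ Y₂} {X} f₁ f₂ {g₁ g₂} hg₁ hg₂ h := by
    obtain ⟨S, hS, hloc⟩ := covFlat_two J K fn (R := Unit) (fun _ => Z.left)
      (fun _ => g₁.left) (fun _ => g₂.left) f₁.left f₂.left
      (fun _ => congrArg CommaMorphism.left h)
    have hsep := ((isSheaf_iff_isSheaf_of_type _ _).mp ℱ.property).isSeparated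
    refine (hsep _ (J.overEquiv_symm_mem_over X S hS)).ext (fun X' t ht => ?_)
    rw [Sieve.overEquiv_symm_iff] at ht
    obtain ⟨W, c', e₁, e₂, he, hc₁, hc₂⟩ := hloc t.left ht
    let W' : Over V := Over.mk (e₁ ≫ Y₁.hom)
    let w₁ : W' ⟶ Y₁ := Over.homMk e₁ rfl
    let w₂ : W' ⟶ Y₂ := Over.homMk e₂ (by
      change e₂ ≫ Y₂.hom = e₁ ≫ Y₁.hom
      rw [← Over.w g₁, ← Over.w g₂, ← Category.assoc, ← Category.assoc, he ()])
    let c : X' ⟶ (Over.post fn).obj W' := Over.homMk c' (by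
      change c' ≫ fn.map (e₁ ≫ Y₁.hom) = X'.hom
      rw [fn.map_comp, ← Category.assoc, hc₁, Category.assoc, ← Over.w t]
      congr 1
      exact Over.w f₁)
    have hw : w₁ ≫ g₁ = w₂ ≫ g₂ := by
      ext
      exact he ()
    have key := hx w₁ w₂ hg₁ hg₂ hw
    have e1 : t ≫ f₁ = c ≫ (Over.post fn).map w₁ := by
      ext
      exact hc₁.symm
    have e2 : t ≫ f₂ = c ≫ (Over.post fn).map w₂ := by
      ext
      exact hc₂.symm
    rw [← FunctorToTypes.map_comp_apply, ← FunctorToTypes.map_comp_apply, ← op_comp, ← op_comp,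
      e1, e2, op_comp, op_comp, FunctorToTypes.map_comp_apply, FunctorToTypes.map_comp_apply]
    exact congrArg (ℱ.obj.map c.op) key

include K in
theorem isContinuous_overPost (V : D) :
    (Over.post (X := V) fn).IsContinuous (K.over V) (J.over (fn.obj V)) :=
  Functor.isContinuous_of_coverPreserving (compatiblePreserving_overPost J K fn V)
    ((CoverPreserving.of_isContinuous fn K J).overPost V)

instance final_overPost (V : D) : (Over.post (X := V) fn).Final := by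
  have h1 : (Functor.fromPUnit.{0} (Over.mk (𝟙 V))).Final :=
    Functor.final_fromPUnit_of_isTerminal Over.mkIdTerminal
  have h2 : (Functor.fromPUnit.{0} ((Over.post (X := V) fn).obj (Over.mk (𝟙 V)))).Final := by
    apply Functor.final_fromPUnit_of_isTerminal
    have : (Over.post (X := V) fn).obj (Over.mk (𝟙 V)) = Over.mk (𝟙 (fn.obj V)) := by
      simp [Over.post]
    rw [this]
    exact Over.mkIdTerminal
  have h3 : (Functor.fromPUnit.{0} (Over.mk (𝟙 V)) ⋙ Over.post (X := V) fn).Final :=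
    Functor.final_of_natIso (F := Functor.fromPUnit.{0} ((Over.post (X := V) fn).obj (Over.mk (𝟙 V))))
      (Discrete.natIso (fun _ => Iso.refl _))
  exact Functor.final_of_final_comp (Functor.fromPUnit.{0} (Over.mk (𝟙 V))) _

include K in
theorem coversTop_map {I : Type*} {X : I → D} (hX : K.CoversTop X) :
    J.CoversTop (fun i => fn.obj (X i)) := by
  intro T
  obtain ⟨S, hS, hloc⟩ := covFlat_zero J K fn T
  refine J.transitive hS _ (fun T' t ht => ?_)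
  obtain ⟨Y, ⟨c⟩⟩ := hloc t ht
  have h1 : (Sieve.ofObjects X Y).functorPushforward fn ∈ J (fn.obj Y) :=
    (CoverPreserving.of_isContinuous fn K J).cover_preserve (hX Y)
  refine J.superset_covering ?_ (J.pullback_stable c h1)
  rintro T'' r ⟨Y', a, b, ⟨i, ⟨d⟩⟩, hab⟩
  exact ⟨i, ⟨b ≫ fn.map d⟩⟩

end OverPost

section OverFlat

variable [fn.IsContinuous K J] [PreservesFiniteLimits (fn.sheafPullback (Type u) K J)]

include K in
/-- covering flatness for a pair of objects -/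
theorem covFlat_pair {S₁ S₂ : D} {T : C} (c₁ : T ⟶ fn.obj S₁) (c₂ : T ⟶ fn.obj S₂) :
    ∃ S ∈ J T, ∀ ⦃T' : C⦄ (t : T' ⟶ T), S t →
      ∃ (X : D) (c' : T' ⟶ fn.obj X) (e₁ : X ⟶ S₁) (e₂ : X ⟶ S₂),
        c' ≫ fn.map e₁ = t ≫ c₁ ∧ c' ≫ fn.map e₂ = t ≫ c₂ := by
  obtain ⟨S, hS, h⟩ := covFlat_two J K fn (R := PEmpty) (fun r => PEmpty.elim r)
    (fun r => PEmpty.elim r) (fun r => PEmpty.elim r) c₁ c₂ (fun r => PEmpty.elim r)
  refine ⟨S, hS, fun T' t ht => ?_⟩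
  obtain ⟨X, c', e₁, e₂, -, h1, h2⟩ := h t ht
  exact ⟨X, c', e₁, e₂, h1, h2⟩

include K in
/-- covering flatness for two objects mapping to two objects -/
theorem covFlat_two_two {S₁ S₂ V W : D} (v₁ : S₁ ⟶ V) (v₂ : S₂ ⟶ V) (p₁ : S₁ ⟶ W) (p₂ : S₂ ⟶ W)
    {T : C} (c₁ : T ⟶ fn.obj S₁) (c₂ : T ⟶ fn.obj S₂)
    (hv : c₁ ≫ fn.map v₁ = c₂ ≫ fn.map v₂) (hp : c₁ ≫ fn.map p₁ = c₂ ≫ fn.map p₂) :
    ∃ S ∈ J T, ∀ ⦃T' : C⦄ (t : T' ⟶ T), S t →
      ∃ (X : D) (c' : T' ⟶ fn.obj X) (e₁ : X ⟶ S₁) (e₂ : X ⟶ S₂),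
        e₁ ≫ v₁ = e₂ ≫ v₂ ∧ e₁ ≫ p₁ = e₂ ≫ p₂ ∧
          c' ≫ fn.map e₁ = t ≫ c₁ ∧ c' ≫ fn.map e₂ = t ≫ c₂ := by
  obtain ⟨S, hS, h⟩ := covFlat_two J K fn (R := Bool) (fun r => Bool.rec V W r)
    (fun r => Bool.rec (motive := fun r => S₁ ⟶ Bool.rec V W r) v₁ p₁ r)
    (fun r => Bool.rec (motive := fun r => S₂ ⟶ Bool.rec V W r) v₂ p₂ r) c₁ c₂
    (fun r => by cases r <;> assumption)
  refine ⟨S, hS, fun T' t ht => ?_⟩
  obtain ⟨X, c', e₁, e₂, he, h1, h2⟩ := h t ht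
  exact ⟨X, c', e₁, e₂, he false, he true, h1, h2⟩

variable (V W : D)

include K in
/-- every span `fn V ⟵ T ⟶ fn W` is locally the image of a span `V ⟵ S ⟶ W` -/
theorem covFlat_over_pair (T : Over (fn.obj V)) (q : T.left ⟶ fn.obj W) :
    ∃ R ∈ (J.over (fn.obj V)) T, ∀ ⦃T' : Over (fn.obj V)⦄ (t : T' ⟶ T), R t →
      ∃ (S : Over V) (c : T' ⟶ (Over.post fn).obj S) (p : S.left ⟶ W),
        c.left ≫ fn.map p = t.left ≫ q := by
  obtain ⟨S, hS, h⟩ := covFlat_pair J K fn T.hom q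
  refine ⟨(Sieve.overEquiv T).symm S, J.overEquiv_symm_mem_over T S hS, fun T' t ht => ?_⟩
  rw [Sieve.overEquiv_symm_iff] at ht
  obtain ⟨X, c', e₁, e₂, h1, h2⟩ := h t.left ht
  refine ⟨Over.mk e₁, Over.homMk c' ?_, e₂, h2⟩
  change c' ≫ fn.map e₁ = T'.hom
  rw [h1, Over.w t]

include K in
theorem covFlat_over_two (T : Over (fn.obj V)) (S₁ S₂ : Over V)
    (c₁ : T ⟶ (Over.post fn).obj S₁) (c₂ : T ⟶ (Over.post fn).obj S₂)
    (p₁ : S₁.left ⟶ W) (p₂ : S₂.left ⟶ W) (hp : c₁.left ≫ fn.map p₁ = c₂.left ≫ fn.map p₂) :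
    ∃ R ∈ (J.over (fn.obj V)) T, ∀ ⦃T' : Over (fn.obj V)⦄ (t : T' ⟶ T), R t →
      ∃ (X : Over V) (c' : T' ⟶ (Over.post fn).obj X) (e₁ : X ⟶ S₁) (e₂ : X ⟶ S₂),
        e₁.left ≫ p₁ = e₂.left ≫ p₂ ∧ c' ≫ (Over.post fn).map e₁ = t ≫ c₁ ∧
          c' ≫ (Over.post fn).map e₂ = t ≫ c₂ := by
  have hv : c₁.left ≫ fn.map S₁.hom = c₂.left ≫ fn.map S₂.hom :=
    (Over.w c₁).trans (Over.w c₂).symm
  obtain ⟨S, hS, h⟩ := covFlat_two_two J K fn S₁.hom S₂.hom p₁ p₂ c₁.left c₂.left hv hp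
  refine ⟨(Sieve.overEquiv T).symm S, J.overEquiv_symm_mem_over T S hS, fun T' t ht => ?_⟩
  rw [Sieve.overEquiv_symm_iff] at ht
  obtain ⟨X, c', e₁, e₂, hev, hep, h1, h2⟩ := h t.left ht
  refine ⟨Over.mk (e₁ ≫ S₁.hom), Over.homMk c' ?_, Over.homMk e₁ rfl, Over.homMk e₂ hev.symm,
    hep, ?_, ?_⟩
  · change c' ≫ fn.map (e₁ ≫ S₁.hom) = T'.hom
    rw [fn.map_comp, ← Category.assoc, h1, Category.assoc, ← Over.w t]
    congr 1
    exact Over.w c₁
  · ext
    exact h1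
  · ext
    exact h2

end OverFlat

end Groth.Agent.Lib.Helper74.ModPull
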