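import Groth.Agent.Lib.Helper74.ModPull.KL
import Groth.Agent.Lib.Helper74.ModPull.ModGen
import Groth.Agent.Lib.Helper74.ModPull.ConjDetect
import Groth.Agent.Lib.Helper30.ModSAFT

/-!
# Inverse image of modules commutes with localization
-/

set_option autoImplicit false
universe u
open CategoryTheory Limits Opposite

namespace Groth.Agent.Lib.Helper74.ModPull

variable {C D : Type u} [SmallCategory C] [SmallCategory D]
  {J : GrothendieckTopology C} {K : GrothendieckTopology D}
  (fn : D ⥤ C) [fn.IsContinuous K J] [PreservesFiniteLimits (fn.sheafPullback (Type u) K J)]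
  {R_C : Sheaf J RingCat.{u}} {R_D : Sheaf K RingCat.{u}}
  (φ : R_D ⟶ (fn.sheafPushforwardContinuous RingCat.{u} K J).obj R_C)

instance instIsContinuousOverPost (V : D) :
    (Over.post (X := V) fn).IsContinuous (K.over V) (J.over (fn.obj V)) :=
  isContinuous_overPost J K fn V

/-- the localized morphism of sheaves of rings -/
noncomputable def phiOver (V : D) : R_D.over V ⟶
    ((Over.post (X := V) fn).sheafPushforwardContinuous RingCat.{u} (K.over V)
      (J.over (fn.obj V))).obj (R_C.over (fn.obj V)) :=
  ((Over.forget V).sheafPushforwardContinuous RingCat.{u} (K.over V) K).map φ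

set_option backward.isDefEq.respectTransparency.types false in
instance (V : D) : (SheafOfModules.pushforward.{u} (phiOver fn φ V)).IsRightAdjoint :=
  inferInstance

set_option backward.isDefEq.respectTransparency.types false in
instance : (SheafOfModules.pushforward.{u} φ).IsRightAdjoint := inferInstance

/-- localized direct image -/
noncomputable abbrev pushV (V : D) :
    SheafOfModules.{u} (R_C.over (fn.obj V)) ⥤ SheafOfModules.{u} (R_D.over V) :=
  SheafOfModules.pushforward.{u} (phiOver fn φ V)

/-- localized inverse image -/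
noncomputable abbrev pullV (V : D) :
    SheafOfModules.{u} (R_D.over V) ⥤ SheafOfModules.{u} (R_C.over (fn.obj V)) :=
  SheafOfModules.pullback.{u} (phiOver fn φ V)

noncomputable abbrev adjV (V : D) : pullV fn φ V ⊣ pushV fn φ V :=
  SheafOfModules.pullbackPushforwardAdjunction.{u} (phiOver fn φ V)

/-- `(f_* M)|_V = f_{V*}(M|_{fn V})` -/
noncomputable def pushRestrIso (V : D) :
    SheafOfModules.pushforward.{u} φ ⋙ SheafOfModules.overFunctor R_D V ≅
      SheafOfModules.overFunctor R_C (fn.obj V) ⋙ pushV fn φ V :=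
  NatIso.ofComponents (fun M => Iso.refl _) (by
    intro M M' g
    rfl)

/-- the adjunction `f^* ⊣ f_*` -/
noncomputable abbrev adjF : SheafOfModules.pullback.{u} φ ⊣ SheafOfModules.pushforward.{u} φ :=
  SheafOfModules.pullbackPushforwardAdjunction.{u} φ

/-- the map `N|_V ⟶ f_{V*}((f^*N)|_{fn V})` -/
noncomputable def thetaAdj (V : D) (N : SheafOfModules.{u} R_D) :
    (SheafOfModules.overFunctor R_D V).obj N ⟶
      (pushV fn φ V).obj ((SheafOfModules.overFunctor R_C (fn.obj V)).obj
        ((SheafOfModules.pullback.{u} φ).obj N)) :=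
  (SheafOfModules.overFunctor R_D V).map ((adjF fn φ).unit.app N) ≫
    (pushRestrIso fn φ V).hom.app _

lemma thetaAdj_naturality (V : D) {N N' : SheafOfModules.{u} R_D} (g : N ⟶ N') :
    (SheafOfModules.overFunctor R_D V).map g ≫ thetaAdj fn φ V N' =
      thetaAdj fn φ V N ≫ (pushV fn φ V).map ((SheafOfModules.overFunctor R_C (fn.obj V)).map
        ((SheafOfModules.pullback.{u} φ).map g)) := by
  unfold thetaAdj
  have h1 := (pushRestrIso fn φ V).hom.naturality ((SheafOfModules.pullback.{u} φ).map g)
  have h2 := (adjF fn φ).unit.naturality g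
  simp only [Functor.comp_map, Functor.id_map] at h1 h2
  rw [Category.assoc, ← h1, ← Category.assoc, ← Category.assoc, ← Functor.map_comp,
    ← Functor.map_comp, h2]

/-- the comparison `f_V^*(N|_V) ⟶ (f^* N)|_{fn V}` -/
noncomputable def theta (V : D) :
    SheafOfModules.overFunctor R_D V ⋙ pullV fn φ V ⟶
      SheafOfModules.pullback.{u} φ ⋙ SheafOfModules.overFunctor R_C (fn.obj V) where
  app N := ((adjV fn φ V).homEquiv _ _).symm (thetaAdj fn φ V N)
  naturality N N' g := by
    apply ((adjV fn φ V).homEquiv _ _).injective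
    rw [Functor.comp_map, Functor.comp_map, Adjunction.homEquiv_naturality_left,
      Adjunction.homEquiv_naturality_right, Equiv.apply_symm_apply, Equiv.apply_symm_apply]
    exact thetaAdj_naturality fn φ V g

lemma homEquiv_theta_comp (V : D) (N : SheafOfModules.{u} R_D)
    {M : SheafOfModules.{u} (R_C.over (fn.obj V))}
    (m : (SheafOfModules.overFunctor R_C (fn.obj V)).obj ((SheafOfModules.pullback.{u} φ).obj N)
      ⟶ M) :
    (adjV fn φ V).homEquiv _ _ ((theta fn φ V).app N ≫ m) =
      thetaAdj fn φ V N ≫ (pushV fn φ V).map m := by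
  rw [Adjunction.homEquiv_naturality_right]
  congr 1
  exact Equiv.apply_symm_apply _ _

section Generators

/-- the unit map on sections: `N(S) → (f^*N)(fn S)` -/
noncomputable def unitSec (N : SheafOfModules.{u} R_D) (S : D) (x : N.val.obj (op S)) :
    ((SheafOfModules.pullback.{u} φ).obj N).val.obj (op (fn.obj S)) :=
  ((adjF fn φ).unit.app N).val.app (op S) x

lemma unitSec_map (N : SheafOfModules.{u} R_D) {S S' : D} (p : S ⟶ S') (x : N.val.obj (op S')) :
    unitSec fn φ N S (N.val.map p.op x) =
      ((SheafOfModules.pullback.{u} φ).obj N).val.map (fn.map p).op (unitSec fn φ N S' x) :=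
  PresheafOfModules.naturality_apply ((adjF fn φ).unit.app N).val p.op x

lemma homEquiv_val_app_apply {N : SheafOfModules.{u} R_D} {M : SheafOfModules.{u} R_C}
    (m : (SheafOfModules.pullback.{u} φ).obj N ⟶ M) (S : D) (x : N.val.obj (op S)) :
    ((adjF fn φ).homEquiv _ _ m).val.app (op S) x =
      m.val.app (op (fn.obj S)) (unitSec fn φ N S x) := by
  rw [Adjunction.homEquiv_unit]
  rfl

variable (W : D)

/-- the comparison `gen (fn W) ⟶ f^* (gen W)` -/
noncomputable def iota :
    gen R_C (fn.obj W) ⟶ (SheafOfModules.pullback.{u} φ).obj (gen R_D W) :=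
  (genHomEquiv R_C (fn.obj W) _).symm (unitSec fn φ (gen R_D W) W (genSec R_D W (𝟙 W)))

lemma iota_genSec_id :
    (iota fn φ W).val.app (op (fn.obj W)) (genSec R_C (fn.obj W) (𝟙 _)) =
      unitSec fn φ (gen R_D W) W (genSec R_D W (𝟙 W)) := by
  have := (genHomEquiv R_C (fn.obj W) _).apply_symm_apply
    (unitSec fn φ (gen R_D W) W (genSec R_D W (𝟙 W)))
  exact this

lemma genHomEquiv_iota_comp {M : SheafOfModules.{u} R_C}
    (m : (SheafOfModules.pullback.{u} φ).obj (gen R_D W) ⟶ M) :
    genHomEquiv R_C (fn.obj W) M (iota fn φ W ≫ m) =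
      genHomEquiv R_D W ((SheafOfModules.pushforward.{u} φ).obj M)
        ((adjF fn φ).homEquiv _ _ m) := by
  rw [genHomEquiv_apply, genHomEquiv_apply, homEquiv_val_app_apply]
  change m.val.app _ ((iota fn φ W).val.app _ _) = _
  rw [iota_genSec_id]

instance isIso_iota : IsIso (iota fn φ W) := by
  apply isIso_of_coyoneda_map_bijective
  intro M
  have : (fun (m : (SheafOfModules.pullback.{u} φ).obj (gen R_D W) ⟶ M) => iota fn φ W ≫ m) =
      (genHomEquiv R_C (fn.obj W) M).symm ∘
        (genHomEquiv R_D W ((SheafOfModules.pushforward.{u} φ).obj M)) ∘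
          ((adjF fn φ).homEquiv _ _) := by
    funext m
    apply (genHomEquiv R_C (fn.obj W) M).injective
    simp only [Function.comp, Equiv.apply_symm_apply]
    exact genHomEquiv_iota_comp fn φ W m
  rw [this]
  exact (Equiv.bijective _).comp ((Equiv.bijective _).comp (Equiv.bijective _))

/-- the image under `iota` of the tautological sections -/
noncomputable def tau {T : C} (q : T ⟶ fn.obj W) :
    ((SheafOfModules.pullback.{u} φ).obj (gen R_D W)).val.obj (op T) :=
  (iota fn φ W).val.app (op T) (genSec R_C (fn.obj W) q)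

lemma tau_map {S : D} (p : S ⟶ W) :
    tau fn φ W (fn.map p) = unitSec fn φ (gen R_D W) S (genSec R_D W p) := by
  have h1 : genSec R_C (fn.obj W) (fn.map p) =
      (gen R_C (fn.obj W)).val.map (fn.map p).op (genSec R_C (fn.obj W) (𝟙 _)) := by
    rw [genSec_map, Category.comp_id]
  have h2 : genSec R_D W p = (gen R_D W).val.map p.op (genSec R_D W (𝟙 W)) := by
    rw [genSec_map, Category.comp_id]
  unfold tau
  rw [h1, PresheafOfModules.naturality_apply, iota_genSec_id, h2, unitSec_map]

end Generators

section GenIso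

variable (V W : D) (M : SheafOfModules.{u} (R_C.over (fn.obj V)))

/-- the underlying presheaf of sets of `M` -/
noncomputable abbrev setPre : (Over (fn.obj V))ᵒᵖ ⥤ Type u := M.val.presheaf ⋙ forget Ab

lemma isSheaf_setPre : Presieve.IsSheaf (J.over (fn.obj V)) (setPre fn V M) := by
  rw [← isSheaf_iff_isSheaf_of_type]
  exact (Presheaf.isSheaf_iff_isSheaf_forget _ _ (forget Ab)).mp M.isSheaf

/-- evaluation on the sections `tau` -/
noncomputable def evalTau
    (m : (SheafOfModules.overFunctor R_C (fn.obj V)).obj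
      ((SheafOfModules.pullback.{u} φ).obj (gen R_D W)) ⟶ M) :
    hOver (fn.obj V) (fn.obj W) ⟶ setPre fn V M :=
  freeShOverEquiv R_C (fn.obj V) (yoneda.obj (fn.obj W)) M
    ((SheafOfModules.overFunctor R_C (fn.obj V)).map (iota fn φ W) ≫ m)

lemma evalTau_app_apply
    (m : (SheafOfModules.overFunctor R_C (fn.obj V)).obj
      ((SheafOfModules.pullback.{u} φ).obj (gen R_D W)) ⟶ M)
    (T : (Over (fn.obj V))ᵒᵖ) (q : T.unop.left ⟶ fn.obj W) :
    (evalTau fn φ V W M m).app T q = m.val.app T (tau fn φ W q) := rfl

lemma evalTau_bijective : Function.Bijective (evalTau fn φ V W M) := by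
  have h : IsIso ((SheafOfModules.overFunctor R_C (fn.obj V)).map (iota fn φ W)) := inferInstance
  exact (Equiv.bijective _).comp ((isIso_iff_coyoneda_map_bijective _).mp h M)

/-- evaluation on the tautological sections of `gen W|_V` -/
noncomputable def evalD
    (m' : (SheafOfModules.overFunctor R_D V).obj (gen R_D W) ⟶ (pushV fn φ V).obj M) :
    hOver V W ⟶ (Over.post fn).op ⋙ setPre fn V M :=
  freeShOverEquiv R_D V (yoneda.obj W) ((pushV fn φ V).obj M) m'

lemma evalD_bijective : Function.Bijective (evalD fn φ V W M) :=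
  Equiv.bijective _

lemma evalD_theta
    (m : (SheafOfModules.overFunctor R_C (fn.obj V)).obj
      ((SheafOfModules.pullback.{u} φ).obj (gen R_D W)) ⟶ M) :
    evalD fn φ V W M ((adjV fn φ V).homEquiv _ _ ((theta fn φ V).app (gen R_D W) ≫ m)) =
      rho fn V W (evalTau fn φ V W M m) := by
  rw [homEquiv_theta_comp]
  ext S p
  have e1 : (rho fn V W (evalTau fn φ V W M m)).app S p =
      m.val.app (op ((Over.post fn).obj S.unop))
        (unitSec fn φ (gen R_D W) S.unop.left (genSec R_D W p)) := by
    rw [rho_app_apply, evalTau_app_apply]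
    exact congrArg _ (tau_map fn φ W (S := S.unop.left) p)
  exact Eq.trans rfl e1.symm

instance isIso_theta_gen : IsIso ((theta fn φ V).app (gen R_D W)) := by
  apply isIso_of_coyoneda_map_bijective
  intro M
  have h1 : Function.Bijective (fun m => evalD fn φ V W M ((adjV fn φ V).homEquiv _ _
      ((theta fn φ V).app (gen R_D W) ≫ m))) := by
    have : (fun m => evalD fn φ V W M ((adjV fn φ V).homEquiv _ _
        ((theta fn φ V).app (gen R_D W) ≫ m))) =
        rho fn V W ∘ evalTau fn φ V W M := funext (evalD_theta fn φ V W M)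
    rw [this]
    exact (rho_bijective J K (isSheaf_setPre fn V M)).comp (evalTau_bijective fn φ V W M)
  have h2 : Function.Bijective (fun m' => evalD fn φ V W M ((adjV fn φ V).homEquiv _ _ m')) :=
    (evalD_bijective fn φ V W M).comp (Equiv.bijective _)
  exact (Function.Bijective.of_comp_iff' h2 _).mp h1

end GenIso

section Main

open Groth.Agent.Lib.Helper30.ModSAFT in
lemma isLeftAdjoint_overFunctor {E : Type u} [SmallCategory E] {L : GrothendieckTopology E}
    (R : Sheaf L RingCat.{u}) (X : E) : (SheafOfModules.overFunctor R X :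
      SheafOfModules.{u} R ⥤ SheafOfModules.{u} (R.over X)).IsLeftAdjoint :=
  isLeftAdjoint_pushforward (F := Over.forget X) (𝟙 (R.over X))

open Groth.Agent.Lib.Helper30.ModSAFT in
/-- **Inverse image commutes with localization**: `f_V^*(N|_V) ≅ (f^*N)|_{fn V}`. -/
theorem isIso_theta (V : D) : IsIso (theta fn φ V) := by
  have hD := isLeftAdjoint_overFunctor R_D V
  have hC := isLeftAdjoint_overFunctor R_C (fn.obj V)
  let a1 := (Adjunction.ofIsLeftAdjoint (SheafOfModules.overFunctor R_D V)).comp (adjV fn φ V)
  let a2 := (adjF fn φ).comp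
    (Adjunction.ofIsLeftAdjoint (SheafOfModules.overFunctor R_C (fn.obj V)))
  refine isIso_of_isIso_app_of_isDetecting a1 a2 (theta fn φ V) (freeYonedaSh R_D)
    (freeYonedaSh_isSeparating R_D).isDetecting ?_
  rintro _ ⟨W⟩
  exact isIso_theta_gen fn φ V W

/-- the isomorphism `f_V^*(N|_V) ≅ (f^*N)|_{fn V}` -/
noncomputable def thetaIso (V : D) (N : SheafOfModules.{u} R_D) :
    (pullV fn φ V).obj (N.over V) ≅ ((SheafOfModules.pullback.{u} φ).obj N).over (fn.obj V) :=
  have := isIso_theta fn φ V
  asIso ((theta fn φ V).app N)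

end Main

end Groth.Agent.Lib.Helper74.ModPull
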